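import Groth.Agent.Lib.RHom.ProjClosed
import Groth.Agent.Lib.DMon9.LT
import Groth.Agent.Lib.DMon9.LpullIso
import Groth.Agent.Lib.DMon9.ProjQC
import Groth.Agent.Lib.DBC9.Good
import Mathlib.AlgebraicGeometry.Morphisms.Separated

/-! The diagonal is the kernel of the identity. -/

set_option autoImplicit false
set_option linter.unusedSectionVars false
set_option linter.style.haveILetI false
set_option backward.isDefEq.respectTransparency false
set_option backward.isDefEq.respectTransparency.types false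
set_option maxHeartbeats 800000

universe u

open CategoryTheory CategoryTheory.Limits AlgebraicGeometry MonoidalCategory

attribute [local instance] HasDerivedCategory.standard

namespace Groth.Agent.FMDiag9

open KFlat KFlat.Sch DMon9

attribute [local instance] DBC9.hasRpush

variable {X Y : Scheme.{u}}

/-- `- ⊗ F ≅ F ⊗ -` on modules. -/
noncomputable def swap (F : Y.Modules) : (TX Y).flip.obj F ≅ (TX Y).obj F :=
  NatIso.ofComponents (fun P => (Site.flipObjIso Y.sheaf P).app F)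
    (fun {P P'} g => natural_flipObjIso.left g F)

variable (i : X ⟶ Y) [IsClosedImmersion i]

/-- `P ⊗ i_* O ≅ i_* i^* P`. -/
noncomputable def projUnit :
    (TX Y).flip.obj ((Scheme.Modules.pushforward i).obj (Coh.structureModule X)) ≅
      Scheme.Modules.pullback i ⋙ Scheme.Modules.pushforward i :=
  swap _ ≪≫ NatIso.ofComponents (fun P => (RHom.pushProjIso i (Coh.structureModule X) P).symm ≪≫
      (Scheme.Modules.pushforward i).mapIso ((swap (Coh.structureModule X)).symm.app _ ≪≫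
        RHom.unitorNatIso.app ((Scheme.Modules.pullback i).obj P)))
    (fun {P P'} g => by
      have h := (RHom.natural_pushProjIso i).right (Coh.structureModule X) g
      have hn := (swap (Coh.structureModule X)).inv.naturality ((Scheme.Modules.pullback i).map g)
      have hu := RHom.unitorNatIso.hom.naturality ((Scheme.Modules.pullback i).map g)
      simp only [Functor.id_map, Functor.id_obj] at hu h
      simp only [Iso.trans_hom, Iso.symm_hom, Functor.mapIso_hom, Iso.app_hom, Functor.comp_map, Category.assoc,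
        ← Functor.map_comp]
      have h2 : ((TX X).obj (Coh.structureModule X)).map ((Scheme.Modules.pullback i).map g) ≫
          (swap (Coh.structureModule X)).inv.app ((Scheme.Modules.pullback i).obj P') ≫
            RHom.unitorNatIso.hom.app ((Scheme.Modules.pullback i).obj P') =
          ((swap (Coh.structureModule X)).inv.app ((Scheme.Modules.pullback i).obj P) ≫
            RHom.unitorNatIso.hom.app ((Scheme.Modules.pullback i).obj P)) ≫ (Scheme.Modules.pullback i).map g :=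
        (Category.assoc _ _ _).symm.trans ((congrArg (· ≫ _) hn).trans ((Category.assoc _ _ _).trans
          ((congrArg (_ ≫ ·) hu).trans (Category.assoc _ _ _).symm)))
      rw [← Category.assoc _ _ ((Scheme.Modules.pullback i).map g), ← h2, Iso.eq_inv_comp, ← Category.assoc, ← h,
        Category.assoc, Iso.hom_inv_id_assoc, ← Functor.map_comp])

variable (p : Y ⟶ X) (hip : i ≫ p = 𝟙 X)

/-- `p^* M ⊗ i_* O ≅ i_* M`. -/
noncomputable def pullProj :
    Scheme.Modules.pullback p ⋙ (TX Y).flip.obj ((Scheme.Modules.pushforward i).obj (Coh.structureModule X)) ≅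
      Scheme.Modules.pushforward i :=
  Functor.isoWhiskerLeft _ (projUnit i) ≪≫ (Functor.associator _ _ _).symm ≪≫
    Functor.isoWhiskerRight (Scheme.Modules.pullbackComp i p ≪≫ Scheme.Modules.pullbackCongr hip ≪≫
      Scheme.Modules.pullbackId X) _ ≪≫ Functor.leftUnitor _

local notation "Cx" => ComplexShape.up ℤ
/-- `i_* O`. -/
noncomputable abbrev dO : Y.Modules := (Scheme.Modules.pushforward i).obj (Coh.structureModule X)

/-- `R ⊗ F[0] ≅ R ⊗ F`, naturally. -/
noncomputable def singleIso (F : Y.Modules) :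
    (tcx (TX Y)).flip.obj (RHom.sg 0 F) ≅ ((TX Y).flip.obj F).mapHomologicalComplex Cx :=
  (NatIso.ofComponents (fun R => RHom.singleTensorIso (TX Y) 0 F R)
      (fun f => RHom.singleTensorIso_natural (TX Y) 0 F f) : (tcx (TX Y)).flip.obj (RHom.sg 0 F) ≅
      ((TX Y).flip.obj F).mapHomologicalComplex Cx ⋙ shiftFunctor (CochainComplex Y.Modules ℤ) (-0 : ℤ)) ≪≫
    Functor.isoWhiskerLeft _ (shiftFunctorZero' (CochainComplex Y.Modules ℤ) (-0 : ℤ) neg_zero) ≪≫
    Functor.rightUnitor _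

variable [DCoh.HasLTensorCx (RHom.sg 0 (dO i))]

/-- On K-flat complexes the derived tensor product with a single module is the underived one. -/
noncomputable def ltKF (F : Y.Modules) [DCoh.HasLTensorCx (RHom.sg 0 F)] :
    qK Y ⋙ DCoh.LTensorCx (RHom.sg 0 F) ≅
      (kfP Y).ι ⋙ (tcx (TX Y)).flip.obj (RHom.sg 0 F) ⋙ DerivedCategory.Q :=
  NatIso.ofComponents
    (fun R => @asIso _ _ _ _ ((RHom.ltCounit (RHom.sg 0 F)).app R.obj)
      (RHom.isIso_counit_kflat (RHom.sg 0 F) R.obj R.property))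
    (fun f => (RHom.ltCounit (RHom.sg 0 F)).naturality f.hom)

/-- `Lp^*(-) ⊗ i_* O ≅ i_*`. -/
noncomputable def mainIso :
    lP p ⋙ DCoh.LTensorCx (RHom.sg 0 (dO i)) ≅ (Scheme.Modules.pushforward i).mapDerivedCategory :=
  Localization.liftNatIso (qK X) (kfW X) (qK X ⋙ lP p ⋙ DCoh.LTensorCx (RHom.sg 0 (dO i)))
    (qK X ⋙ (Scheme.Modules.pushforward i).mapDerivedCategory) _ _
    ((Functor.associator _ _ _).symm ≪≫ Functor.isoWhiskerRight (lPFac p) _ ≪≫
      Functor.associator _ _ _ ≪≫ Functor.isoWhiskerLeft (kfPull p) (ltKF (dO i)) ≪≫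
      Functor.isoWhiskerLeft (kfP X).ι (Functor.isoWhiskerRight
        (Functor.isoWhiskerLeft ((Scheme.Modules.pullback p).mapHomologicalComplex Cx) (singleIso (dO i)) ≪≫
          (Functor.mapHomologicalComplexCompIso (pullProj i p hip) Cx)) DerivedCategory.Q ≪≫
        (Scheme.Modules.pushforward i).mapDerivedCategoryFactors.symm) ≪≫
      (Functor.associator _ _ _).symm)

/-- The kernel `i_* O` induces `Rq_* ∘ i_* = id`. -/
theorem nonempty_main (q : Y ⟶ X) (hiq : i ≫ q = 𝟙 X) (hip : i ≫ p = 𝟙 X)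
    (K : CochainComplex Y.Modules ℤ) (hK : Nonempty (DCoh.toD Y K ≅ DCoh.inD Y (dO i)))
    [DCoh.HasLpull p] [DCoh.HasLTensorCx K] [DCoh.HasRpush q] :
    Nonempty (DCoh.Lpull p ⋙ DCoh.LTensorCx K ⋙ DCoh.Rpush q ≅ 𝟭 (DCoh.D X)) := by
  obtain ⟨eK⟩ := hK
  obtain ⟨P₁, q₁, hP₁, hq₁⟩ := RHom.exists_kflat_res K
  obtain ⟨P₂, q₂, hP₂, hq₂⟩ := RHom.exists_kflat_res (RHom.sg 0 (dO i))
  haveI : DCoh.HasLTensorCx (⟨P₁, hP₁⟩ : KF Y).obj := KFlat.Sch.hasLTensorCx _
  haveI : DCoh.HasLTensorCx (⟨P₂, hP₂⟩ : KF Y).obj := KFlat.Sch.hasLTensorCx _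
  haveI := RHom.isIso_ltMap q₁
  haveI := RHom.isIso_ltMap q₂
  let e : (qM Y).obj (⟨P₁, hP₁⟩ : KF Y) ≅ (qM Y).obj (⟨P₂, hP₂⟩ : KF Y) :=
    (asIso (DerivedCategory.Q.map q₁) ≪≫ eK ≪≫
      ((DerivedCategory.singleFunctorIsoCompQ Y.Modules 0).app (dO i)) ≪≫ (asIso (DerivedCategory.Q.map q₂)).symm :)
  let eT : DCoh.LTensorCx K ≅ DCoh.LTensorCx (RHom.sg 0 (dO i)) :=
    (asIso (RHom.ltMap q₁)).symm ≪≫ (theta (⟨P₁, hP₁⟩ : KF Y)).symm ≪≫
      (((tensoringRight (DM Y)).mapIso e) : tR (⟨P₁, hP₁⟩ : KF Y) ≅ tR (⟨P₂, hP₂⟩ : KF Y)) ≪≫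
      theta (⟨P₂, hP₂⟩ : KF Y) ≪≫ asIso (RHom.ltMap q₂)
  obtain ⟨np⟩ := nonempty_lpull_natIso_lP p
  obtain ⟨rp⟩ := RHom.nonempty_rpushIso i
  let eR : DCoh.Rpush i ⋙ DCoh.Rpush q ≅ 𝟭 (DCoh.D X) :=
    (((adjLP q).comp (adjLP i)).ofNatIsoLeft (lPComp i q hiq ≪≫ DBC9.lPId X)).rightAdjointUniq Adjunction.id
  exact ⟨Functor.isoWhiskerRight np _ ≪≫ Functor.isoWhiskerLeft _ (Functor.isoWhiskerRight eT _) ≪≫
    (Functor.associator _ _ _).symm ≪≫ Functor.isoWhiskerRight (mainIso i p hip ≪≫ rp.symm) _ ≪≫ eR⟩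

end Groth.Agent.FMDiag9
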